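import Cfsg.Agent.H29.Walter.PslFacts

/-!
# Odd groups acting on a normal piece `PSL₂(q)`

`L` is normal in `X` and `a`, `b` generate a four group of `L`.
-/

set_option autoImplicit false
set_option linter.unusedSectionVars false
set_option linter.style.haveILetI false

namespace Cfsg.Agent.H29.Walter

open Subgroup Cfsg.Agent
open Cfsg.Agent.H10.Walter (IsOddPSL)

universe u

variable {X : Type u} [Group X] [Finite X] {L : Subgroup X} [L.Normal] {a b : X}

/-- An element of odd order centralising `C_L(a)` centralises `L`. -/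
theorem mem_centralizer_of_fixes (hL : IsOddPSL ↥L) (haL : a ∈ L) (hbL : b ∈ L) (ha1 : a ≠ 1)
    (ha : a * a = 1) (hb1 : b ≠ 1) (hb : b * b = 1) (hab : Commute a b) (hne : a ≠ b) {y : X}
    (hy : Odd (orderOf y)) (hfix : ∀ c ∈ L, Commute c a → Commute y c) :
    y ∈ centralizer (L : Set X) := by
  have h1 : MulAut.conjNormal (H := L) y = 1 := by
    refine eq_one_of_fixes_centralizer hL (a := ⟨a, haL⟩) (b := ⟨b, hbL⟩)
      (fun h => ha1 (congrArg Subtype.val h)) (Subtype.ext ha)
      (fun h => hb1 (congrArg Subtype.val h)) (Subtype.ext hb) (Subtype.ext hab)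
      (fun h => hne (congrArg Subtype.val h)) (hy.of_dvd_nat (orderOf_map_dvd _ y)) fun c hc => ?_
    refine Subtype.ext ?_
    rw [MulAut.conjNormal_apply, (hfix c c.2 (congrArg Subtype.val hc)).eq, mul_inv_cancel_right]
  refine mem_centralizer_iff.2 fun c hc => ?_
  have h2 := congrArg Subtype.val (DFunLike.congr_fun h1 ⟨c, hc⟩)
  rw [MulAut.conjNormal_apply, MulAut.one_apply] at h2
  exact (mul_inv_eq_iff_eq_mul.1 h2).symm

/-- An odd group normalised by `C_L(a)` meets `L` in `C(a)` and centralises `a`. -/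
theorem commute_of_normalized (hL : IsOddPSL ↥L) (haL : a ∈ L) (hbL : b ∈ L) (ha1 : a ≠ 1)
    (ha : a * a = 1) (hb1 : b ≠ 1) (hb : b * b = 1) (hab : Commute a b) (hne : a ≠ b)
    {Y : Subgroup X} (hY : Odd (Nat.card Y))
    (hn : ∀ c ∈ L, Commute c a → c ∈ normalizer (Y : Set X)) : ∀ y ∈ Y, Commute y a := by
  have hZodd : Odd (Nat.card (Y.subgroupOf L)) := by
    refine hY.of_dvd_nat ?_
    rw [← Subgroup.card_map_of_injective L.subtype_injective]
    exact card_dvd_of_le (by
      rintro _ ⟨z, hz, rfl⟩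
      exact hz)
  have key := le_centralizer_of_normalized hL (a := ⟨a, haL⟩) (b := ⟨b, hbL⟩)
    (fun h => ha1 (congrArg Subtype.val h)) (Subtype.ext ha)
    (fun h => hb1 (congrArg Subtype.val h)) (Subtype.ext hb) (Subtype.ext hab)
    (fun h => hne (congrArg Subtype.val h)) hZodd fun c hc => by
      refine mem_normalizer_iff.2 fun z => ?_
      simp only [mem_subgroupOf, Subgroup.coe_mul, Subgroup.coe_inv]
      exact mem_normalizer_iff.1 (hn c c.2 (congrArg Subtype.val hc)) z
  intro y hy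
  have haN : a ∈ normalizer (Y : Set X) := hn a haL (Commute.refl a)
  have hinv : a⁻¹ = a := inv_eq_of_mul_eq_one_right ha
  set c := y * a * y⁻¹ * a with hc
  have hcY : c ∈ Y := by
    rw [hc, show y * a * y⁻¹ * a = y * (a * y⁻¹ * a) by group]
    refine mul_mem hy ?_
    have := (mem_normalizer_iff.1 haN y⁻¹).1 (inv_mem hy)
    rwa [hinv] at this
  have hcL : c ∈ L := mul_mem ((inferInstance : L.Normal).conj_mem a haL y) haL
  have hca : Commute c a := congrArg Subtype.val (key ⟨c, hcL⟩ hcY)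
  have hcc : c * c = 1 := by
    have h1 : a * c * a = c := by rw [← hca.eq, mul_assoc, ha, mul_one]
    have h2 : (a * c * a) * c = 1 := by
      rw [hc]
      have e1 : y * a * y⁻¹ * a * a = y * a * y⁻¹ := by rw [mul_assoc, ha, mul_one]
      have e2 : y * a * y⁻¹ * (y * a * y⁻¹) = 1 := by
        rw [show y * a * y⁻¹ * (y * a * y⁻¹) = y * (a * a) * y⁻¹ by group, ha]; group
      calc a * (y * a * y⁻¹ * a) * a * (y * a * y⁻¹ * a)
          = a * (y * a * y⁻¹ * a * a) * (y * a * y⁻¹ * a) := by simp only [mul_assoc]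
        _ = a * (y * a * y⁻¹) * (y * a * y⁻¹ * a) := by rw [e1]
        _ = a * (y * a * y⁻¹ * (y * a * y⁻¹)) * a := by simp only [mul_assoc]
        _ = 1 := by rw [e2, mul_one, ha]
    rwa [h1] at h2
  have hc1 : c = 1 := coprime_two_of_odd (hY.of_dvd_nat (orderOf_dvd_natCard Y hcY)) hcc
  rw [hc] at hc1
  have : y * a * y⁻¹ = a := by rw [eq_inv_of_mul_eq_one_left hc1, hinv]
  exact mul_inv_eq_iff_eq_mul.1 this

/-- An odd group centralising a four group of `L` and normalised by `C_L(a)` centralises `L`. -/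
theorem le_centralizer_of_four (hL : IsOddPSL ↥L) (haL : a ∈ L) (hbL : b ∈ L) (ha1 : a ≠ 1)
    (ha : a * a = 1) (hb1 : b ≠ 1) (hb : b * b = 1) (hab : Commute a b) (hne : a ≠ b)
    {Y : Subgroup X} (hY : Odd (Nat.card Y)) (hYa : ∀ y ∈ Y, Commute y a)
    (hYb : ∀ y ∈ Y, Commute y b) (hn : ∀ c ∈ L, Commute c a → c ∈ normalizer (Y : Set X)) :
    Y ≤ centralizer (L : Set X) := by
  intro y hy
  refine mem_centralizer_of_fixes hL haL hbL ha1 ha hb1 hb hab hne
    (hY.of_dvd_nat (orderOf_dvd_natCard Y hy)) fun c hcL hca => ?_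
  set d := y * c * y⁻¹ * c⁻¹ with hd
  have hdY : d ∈ Y := by
    rw [hd, show y * c * y⁻¹ * c⁻¹ = y * (c * y⁻¹ * c⁻¹) by group]
    exact mul_mem hy ((mem_normalizer_iff.1 (hn c hcL hca) _).1 (inv_mem hy))
  have hdL : d ∈ L := mul_mem ((inferInstance : L.Normal).conj_mem c hcL y) (inv_mem hcL)
  have hdd : d * d = 1 := by
    rcases centralizer_pair_le hL (a := (⟨a, haL⟩ : L)) (b := (⟨b, hbL⟩ : L))
      (fun h => ha1 (congrArg Subtype.val h)) (Subtype.ext ha)
      (fun h => hb1 (congrArg Subtype.val h)) (Subtype.ext hb) (Subtype.ext hab)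
      (fun h => hne (congrArg Subtype.val h)) (g := (⟨d, hdL⟩ : L)) (Subtype.ext (hYa d hdY).eq)
      (Subtype.ext (hYb d hdY).eq) with h | h | h | h <;>
      rw [show d = _ from congrArg Subtype.val h]
    · exact one_mul 1
    · exact ha
    · exact hb
    · show a * b * (a * b) = 1
      rw [mul_assoc, ← mul_assoc b a b, hab.eq.symm, mul_assoc a b b, hb, mul_one, ha]
  have hd1 : d = 1 := coprime_two_of_odd (hY.of_dvd_nat (orderOf_dvd_natCard Y hdY)) hdd
  rw [hd] at hd1
  exact mul_inv_eq_iff_eq_mul.1 (mul_inv_eq_one.1 hd1)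

end Cfsg.Agent.H29.Walter
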