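import Cfsg.Agent.H10.Walter.Setting
import Cfsg.Agent.H88.Walter.PiecePSL
import Cfsg.Agent.H65.GW.PslFacts
import Cfsg.Agent.H56.CTwoAb.Small
import Cfsg.Agent.Components.PAction
import Cfsg.Agent.S0205
import Mathlib.GroupTheory.Transfer

/-!
# Facts about the pieces `PSL₂(q)`, `q ≡ 3, 5 (mod 8)`

Odd elements and odd automorphisms at an involution: an odd element commutes with at most one
involution, an odd group normalised by `C_L(a)` meets `L` in `C(a)` and centralises `a`, and an odd
automorphism fixing `C_L(a)` is trivial.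
-/

set_option autoImplicit false
set_option linter.unusedSectionVars false
set_option linter.style.haveILetI false

namespace Cfsg.Agent.H29.Walter

open Subgroup Cfsg.Agent
open Cfsg.Agent.H10.Walter (IsOddPSL)

universe u

variable {L : Type u} [Group L] [Finite L]

theorem coprime_two_of_odd {G : Type*} [Group G] {x : G} (hx : Odd (orderOf x)) (h : x * x = 1) :
    x = 1 :=
  orderOf_eq_one_iff.1 (Nat.eq_one_of_dvd_coprimes (Nat.coprime_two_left.2 hx)
    (orderOf_dvd_of_pow_eq_one (show x ^ 2 = 1 by rw [pow_two, h])) dvd_rfl)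

theorem isSimpleGroup (hL : IsOddPSL L) : IsSimpleGroup L := by
  obtain ⟨F, _, _, h5, -, ⟨e⟩⟩ := hL
  haveI : IsSimpleGroup (Matrix.ProjectiveSpecialLinearGroup (Fin 2) F) :=
    Linear.isSimpleGroup_PSL_fin le_rfl fun _ => by rw [Nat.card_eq_fintype_card]; omega
  haveI : Nontrivial L := e.toEquiv.nontrivial
  exact IsSimpleGroup.isSimpleGroup_of_surjective e.symm.toMonoidHom e.symm.surjective

theorem mem_closure_pair_cases {G : Type*} [Group G] {a b g : G} (ha : a * a = 1) (hb : b * b = 1)
    (hab : Commute a b) (hg : g ∈ closure ({a, b} : Set G)) :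
    g = 1 ∨ g = a ∨ g = b ∨ g = a * b := by
  induction hg using Subgroup.closure_induction with
  | mem x hx => rcases hx with rfl | rfl <;> simp
  | one => simp
  | mul x y _ _ hx hy =>
    have h1 : b * a = a * b := hab.eq.symm
    have h2 : a * (a * b) = b := by rw [← mul_assoc, ha, one_mul]
    have h3 : b * (a * b) = a := by rw [← mul_assoc, h1, mul_assoc, hb, mul_one]
    have h4 : a * b * a = b := by rw [mul_assoc, h1, h2]
    have h5 : a * b * b = a := by rw [mul_assoc, hb, mul_one]
    have h6 : a * b * (a * b) = 1 := by rw [← mul_assoc, h4, hb]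
    rcases hx with rfl | rfl | rfl | rfl <;> rcases hy with rfl | rfl | rfl | rfl <;>
      simp [ha, hb, h1, h2, h3, h4, h5, h6]
  | inv x _ hx =>
    rcases hx with rfl | rfl | rfl | rfl
    · simp
    · exact Or.inr (Or.inl (inv_eq_of_mul_eq_one_left ha))
    · exact Or.inr (Or.inr (Or.inl (inv_eq_of_mul_eq_one_left hb)))
    · refine Or.inr (Or.inr (Or.inr ?_))
      rw [mul_inv_rev, inv_eq_of_mul_eq_one_left ha, inv_eq_of_mul_eq_one_left hb, hab.eq]

/-- The order is four modulo eight. -/
theorem card_mod_eight (hL : IsOddPSL L) : Nat.card L % 8 = 4 := by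
  obtain ⟨F, _, _, -, h8, ⟨e⟩⟩ := hL
  rw [Nat.card_congr e.toEquiv]
  have h := H56.CTwoAb.card_psl_two_odd (F := F) (by omega)
  set q := Fintype.card F
  set c := Nat.card (Matrix.ProjectiveSpecialLinearGroup (Fin 2) F)
  obtain ⟨k, hk⟩ : ∃ k, q = 8 * k + 3 ∨ q = 8 * k + 5 := ⟨q / 8, by omega⟩
  rcases hk with hk | hk <;> rw [hk] at h
  · have h' : 2 * c = 8 * (64 * k ^ 3 + 72 * k ^ 2 + 26 * k + 3) := by
      rw [h, show (8 * k + 3) ^ 2 - 1 = 64 * k ^ 2 + 48 * k + 8 by
        rw [Nat.sub_eq_iff_eq_add (by nlinarith)]; ring]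
      ring
    omega
  · have h' : 2 * c = 8 * (64 * k ^ 3 + 120 * k ^ 2 + 74 * k + 15) := by
      rw [h, show (8 * k + 5) ^ 2 - 1 = 64 * k ^ 2 + 80 * k + 24 by
        rw [Nat.sub_eq_iff_eq_add (by nlinarith)]; ring]
      ring
    omega

/-- An element of odd order `≠ 1` commutes with at most one involution. -/
theorem eq_of_commute_odd (hL : IsOddPSL L) {x a b : L} (hxo : Odd (orderOf x)) (hx : x ≠ 1)
    (ha1 : a ≠ 1) (ha : a * a = 1) (hax : Commute a x) (hb1 : b ≠ 1) (hb : b * b = 1)
    (hbx : Commute b x) : a = b := by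
  obtain ⟨F, _, _, -, h8, ⟨e⟩⟩ := hL
  refine e.injective (H65.GW.involution_unique_psl (H4.GW.two_ne (Nat.odd_iff.2 (by omega)))
    (x := e x) ?_ (by simpa using ha1) (by rw [← map_mul, ha, map_one]) (hax.map e)
    (by simpa using hb1) (by rw [← map_mul, hb, map_one]) (hbx.map e))
  rw [← map_mul]
  intro h
  exact hx (coprime_two_of_odd hxo (e.injective (h.trans (map_one e).symm)))

/-- The odd elements commuting with an involution commute with each other. -/
theorem commute_of_commute_invol (hL : IsOddPSL L) {a g h : L} (ha1 : a ≠ 1) (ha : a * a = 1)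
    (hgo : Odd (orderOf g)) (hg : Commute g a) (hho : Odd (orderOf h)) (hh : Commute h a) :
    Commute g h := by
  obtain ⟨F, _, _, -, h8, ⟨e⟩⟩ := hL
  have hodd : Odd (Fintype.card F) := Nat.odd_iff.2 (by omega)
  have hv1 : e a ≠ 1 := by simpa using ha1
  have hv : e a * e a = 1 := by rw [← map_mul, ha, map_one]
  have hu := H88.Walter.PSL.not_isUni hodd hv1 hv
  have key : ∀ z : L, Odd (orderOf z) → Commute z a → e z ∈ Linear.Dickson.cen (e a) := by
    intro z hzo hz
    have hN : e z ∈ normalizer ((Linear.Dickson.cen (e a) : Subgroup _) : Set _) := by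
      rw [← H88.Walter.PSL.centralizer_eq hodd hv1 hv, mem_centralizer_singleton_iff]
      exact (hz.map e).eq
    have hsq : e z * e z ∈ Linear.Dickson.cen (e a) := by
      by_cases hc : e z ∈ Linear.Dickson.cen (e a)
      · exact mul_mem hc hc
      · exact Linear.Dickson.inverter_mul_mem hu (mem_normalizer_iff.1 hN)
          (mem_normalizer_iff.1 hN) hc hc
    obtain ⟨k, hk⟩ := hzo
    have he : e z = (e z * e z) ^ (k + 1) := by
      rw [← pow_two, ← pow_mul, show 2 * (k + 1) = orderOf z + 1 by omega, pow_succ, ← map_pow,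
        pow_orderOf_eq_one, map_one, one_mul]
    rw [he]
    exact pow_mem hsq _
  have hc := Linear.Dickson.cen_comm hv1 (key g hgo hg) (key h hho hh)
  exact e.injective (by rw [map_mul, map_mul]; exact hc)

/-- A four group is self-centralising. -/
theorem centralizer_pair_le (hL : IsOddPSL L) {a b : L} (ha1 : a ≠ 1) (ha : a * a = 1)
    (hb1 : b ≠ 1) (hb : b * b = 1) (hab : Commute a b) (hne : a ≠ b) {g : L} (hga : Commute g a)
    (hgb : Commute g b) : g = 1 ∨ g = a ∨ g = b ∨ g = a * b := by
  obtain ⟨F, _, _, -, h8, ⟨e⟩⟩ := hL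
  have hmem : e g ∈ closure ({e a, e b} : Set (Matrix.ProjectiveSpecialLinearGroup (Fin 2) F)) := by
    refine H88.Walter.PSL.centralizer_four (Nat.odd_iff.2 (by omega)) (by simpa using ha1)
      (by rw [← map_mul, ha, map_one]) (hab.symm.map e) (by rw [← map_mul, hb, map_one])
      (by simpa using hb1) (fun h => hne (e.injective h).symm) ?_
    rw [mem_centralizer_iff]
    rintro _ (rfl | rfl)
    · exact (hga.map e).symm.eq
    · exact (hgb.map e).symm.eq
  have hset : closure ({e a, e b} : Set (Matrix.ProjectiveSpecialLinearGroup (Fin 2) F)) =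
      (closure ({a, b} : Set L)).map e.toMonoidHom := by
    rw [MonoidHom.map_closure, Set.image_pair]
    rfl
  rw [hset] at hmem
  obtain ⟨g', hg', hge⟩ := hmem
  obtain rfl : g' = g := e.injective hge
  exact mem_closure_pair_cases ha hb hab hg'

/-- An element of odd order normalising a four group and fixing one of its involutions is
trivial. -/
theorem eq_one_of_fix (hL : IsOddPSL L) {x y n : L} (hx1 : x ≠ 1) (hx : x * x = 1) (hy1 : y ≠ 1)
    (hy : y * y = 1) (hxy : Commute x y) (hne : x ≠ y) (hno : Odd (orderOf n))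
    (hnx : Commute n x) (hn : n * y * n⁻¹ ∈ closure ({x, y} : Set L)) : n = 1 := by
  have hy' : n * y * n⁻¹ ≠ 1 := fun h => hy1 (by rwa [conj_eq_one_iff] at h)
  have hyx : n * y * n⁻¹ ≠ x := fun h => hne (by
    have h' : n * y * n⁻¹ = n * x * n⁻¹ := by rw [h, hnx.eq, mul_inv_cancel_right]
    exact (mul_left_cancel (mul_right_cancel h')).symm)
  by_contra hn1
  have hn2 : ∀ h2 : Commute (n * n) y, False := by
    intro h2
    have hsq : Odd (orderOf (n * n)) := by
      rw [← pow_two, orderOf_pow, Nat.Coprime.gcd_eq_one (Nat.coprime_two_right.2 hno), Nat.div_one]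
      exact hno
    have hne1 : n * n ≠ 1 := fun h => hn1 (coprime_two_of_odd hno h)
    exact hne (eq_of_commute_odd hL hsq hne1 hx1 hx (hnx.symm.mul_right hnx.symm) hy1 hy h2.symm)
  rcases mem_closure_pair_cases hx hy hxy hn with h | h | h | h
  · exact hy' h
  · exact hyx h
  · exact hn2 ((show Commute n y from mul_inv_eq_iff_eq_mul.1 h).mul_left
      (mul_inv_eq_iff_eq_mul.1 h))
  · refine hn2 (mul_inv_eq_iff_eq_mul.1 ?_)
    rw [show n * n * y * (n * n)⁻¹ = n * (n * y * n⁻¹) * n⁻¹ by group, h,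
      show n * (x * y) * n⁻¹ = n * x * n⁻¹ * (n * y * n⁻¹) by group, h, hnx.eq,
      mul_inv_cancel_right, ← mul_assoc, hx, one_mul]

/-- A four group is a Sylow `2`-subgroup. -/
theorem exists_sylow_pair (hL : IsOddPSL L) {a b : L} (ha1 : a ≠ 1) (ha : a * a = 1) (hb1 : b ≠ 1)
    (hb : b * b = 1) (hab : Commute a b) (hne : a ≠ b) :
    ∃ P : Sylow 2 L, (P : Subgroup L) = closure ({a, b} : Set L) ∧ Nat.card (P : Subgroup L) = 4 := by
  haveI : Fact (Nat.Prime 2) := ⟨Nat.prime_two⟩
  set V := closure ({a, b} : Set L) with hV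
  have hsq : ∀ g ∈ V, g * g = 1 := by
    intro g hg
    rcases mem_closure_pair_cases ha hb hab hg with rfl | rfl | rfl | rfl
    · exact one_mul 1
    · exact ha
    · exact hb
    · rw [mul_assoc, ← mul_assoc b a b, hab.eq.symm, mul_assoc a b b, hb, mul_one, ha]
  have hVp : IsPGroup 2 V := fun g => ⟨1, Subtype.ext (by
    rw [pow_one, Subgroup.coe_pow, pow_two, hsq g g.2, Subgroup.coe_one])⟩
  obtain ⟨P, hP⟩ := hVp.exists_le_sylow
  obtain ⟨k, hk⟩ := IsPGroup.iff_card.mp P.isPGroup'
  have hdvd : Nat.card (P : Subgroup L) ∣ Nat.card L := card_subgroup_dvd_card _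
  have hk3 : k < 3 := by
    by_contra hcon
    have h8 : 2 ^ 3 ∣ Nat.card L := (pow_dvd_pow 2 (not_lt.1 hcon)).trans (hk ▸ hdvd)
    have h4 := card_mod_eight hL
    norm_num at h8
    omega
  obtain ⟨i, hi⟩ := IsPGroup.iff_card.mp hVp
  have h3 : 3 ≤ Nat.card V := by
    have hsub : ({1, a, b} : Set L) ⊆ V := by
      intro g hg
      rcases hg with rfl | rfl | rfl
      · exact V.one_mem
      · exact subset_closure (Or.inl rfl)
      · exact subset_closure (Or.inr rfl)
    have h3' : ({1, a, b} : Set L).ncard = 3 :=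
      Set.ncard_eq_three.2 ⟨1, a, b, ha1.symm, hb1.symm, hne, rfl⟩
    have := Set.ncard_le_ncard hsub (Set.toFinite _)
    rwa [h3', ← Nat.card_coe_set_eq] at this
  have hle := Nat.card_le_card_of_injective _ (Subgroup.inclusion_injective hP)
  have h2k : (2 : ℕ) ^ k ≤ 4 := by
    calc (2 : ℕ) ^ k ≤ 2 ^ 2 := Nat.pow_le_pow_right (by norm_num) (by omega)
      _ = 4 := by norm_num
  have hi2 : 2 ≤ i := by
    by_contra hcon
    have : (2 : ℕ) ^ i ≤ 2 ^ 1 := Nat.pow_le_pow_right (by norm_num) (by omega)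
    omega
  have h4i : 4 ≤ 2 ^ i := by
    calc 4 = 2 ^ 2 := by norm_num
      _ ≤ 2 ^ i := Nat.pow_le_pow_right (by norm_num) hi2
  have hk4 : Nat.card (P : Subgroup L) = 4 := le_antisymm (hk ▸ h2k)
    (h4i.trans (hi.symm.le.trans hle))
  refine ⟨P, (Subgroup.eq_of_le_of_card_ge hP ?_).symm, hk4⟩
  rw [hk4, hi]
  exact h4i

/-- Some element of odd order permutes the involutions of a four group transitively. -/
theorem exists_fuse (hL : IsOddPSL L) {a b : L} (ha1 : a ≠ 1) (ha : a * a = 1) (hb1 : b ≠ 1)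
    (hb : b * b = 1) (hab : Commute a b) (hne : a ≠ b) :
    ∃ n : L, Odd (orderOf n) ∧ n * a * n⁻¹ = b ∧ n * b * n⁻¹ = a * b := by
  haveI : Fact (Nat.Prime 2) := ⟨Nat.prime_two⟩
  obtain ⟨P, hP, hP4⟩ := exists_sylow_pair hL ha1 ha hb1 hb hab hne
  have haP : a ∈ (P : Subgroup L) := hP ▸ subset_closure (Or.inl rfl)
  have hbP : b ∈ (P : Subgroup L) := hP ▸ subset_closure (Or.inr rfl)
  obtain ⟨g, hgN, hgC⟩ : ∃ g ∈ normalizer ((P : Subgroup L) : Set L),
      g ∉ centralizer ((P : Subgroup L) : Set L) := by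
    by_contra hcon
    push Not at hcon
    have hc := MonoidHom.ker_transferSylow_isComplement' P hcon
    haveI := isSimpleGroup hL
    rcases (inferInstance : (MonoidHom.transferSylow P hcon).ker.Normal).eq_bot_or_eq_top with h | h
    · have h1 := hc.card_mul
      rw [h, Subgroup.card_bot, one_mul, hP4] at h1
      have hcyc : IsCyclic (zpowers a) := inferInstance
      have htop : (P : Subgroup L) = ⊤ := Subgroup.eq_top_of_card_eq _ (by rw [hP4, h1])
      haveI : (zpowers a).Normal := ⟨fun z hz w => by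
        have hw : w ∈ (P : Subgroup L) := htop ▸ Subgroup.mem_top w
        rw [hP] at hw
        have : Commute w a := by
          rcases mem_closure_pair_cases ha hb hab hw with rfl | rfl | rfl | rfl
          · exact Commute.one_left _
          · exact Commute.refl _
          · exact hab.symm
          · exact (Commute.refl a).mul_left hab.symm
        obtain ⟨k, rfl⟩ := hz
        rw [(this.zpow_right k).eq, mul_inv_cancel_right]
        exact zpow_mem (mem_zpowers a) k⟩
      rcases (inferInstance : (zpowers a).Normal).eq_bot_or_eq_top with h' | h'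
      · exact ha1 (zpowers_eq_bot.1 h')
      · have h2 : Nat.card (zpowers a) = 2 := by
          rw [Nat.card_zpowers, orderOf_eq_prime (by rw [pow_two, ha]) ha1]
        rw [h', Subgroup.card_top, ← h1] at h2
        omega
    · have h1 := hc.card_mul
      rw [h, Subgroup.card_top, hP4] at h1
      have := Nat.card_pos (α := L)
      omega
  obtain ⟨k, m, hm2, hkm⟩ :=
    Nat.exists_eq_pow_mul_and_not_dvd (orderOf_pos g).ne' 2 (by norm_num)
  set n₀ := g ^ (2 ^ k) with hn₀
  have hn₀N : n₀ ∈ normalizer ((P : Subgroup L) : Set L) := pow_mem hgN _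
  have hn₀o : Odd (orderOf n₀) := by
    rw [hn₀, orderOf_pow_of_dvd (by positivity) (hkm ▸ dvd_mul_right _ _), hkm,
      Nat.mul_div_cancel_left _ (by positivity)]
    exact Nat.odd_iff.2 (by omega)
  have hn₀1 : n₀ ≠ 1 := by
    intro h
    refine hgC (le_centralizer_iff.1 ?_ (P.3 (IsPGroup.to_sup_of_normal_left' P.isPGroup'
      (IsPGroup.iff_card.2 ?_) (zpowers_le.2 hgN)) le_sup_left ▸ mem_sup_right (mem_zpowers g)))
    · intro z hz
      rw [mem_centralizer_iff]
      intro w hw
      rw [SetLike.mem_coe, hP] at hw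
      rw [hP] at hz
      obtain ⟨hza, hzb⟩ : Commute z a ∧ Commute z b := by
        rcases mem_closure_pair_cases ha hb hab hz with h | h | h | h <;> rw [h]
        · exact ⟨Commute.one_left _, Commute.one_left _⟩
        · exact ⟨Commute.refl _, hab⟩
        · exact ⟨hab.symm, Commute.refl _⟩
        · exact ⟨(Commute.refl a).mul_left hab.symm, hab.mul_left (Commute.refl b)⟩
      rcases mem_closure_pair_cases ha hb hab hw with h | h | h | h <;> rw [h]
      · exact (Commute.one_left z).eq
      · exact hza.symm.eq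
      · exact hzb.symm.eq
      · exact (hza.mul_right hzb).symm.eq
    · obtain ⟨i, -, hi⟩ := (Nat.dvd_prime_pow Nat.prime_two).1 (orderOf_dvd_of_pow_eq_one h)
      exact ⟨i, by rw [Nat.card_zpowers, hi]⟩
  have hmem : ∀ {n : L}, n ∈ normalizer ((P : Subgroup L) : Set L) → ∀ {z : L},
      z ∈ (P : Subgroup L) → n * z * n⁻¹ ∈ closure ({a, b} : Set L) := fun hn _ hz =>
    hP ▸ (mem_normalizer_iff.1 hn _).1 hz
  have hab' : a * b ≠ 1 := fun h => hne (by
    calc a = a * (b * b) := by rw [hb, mul_one]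
      _ = b := by rw [← mul_assoc, h, one_mul])
  have habb : a * b * (a * b) = 1 := by
    rw [mul_assoc, ← mul_assoc b a b, hab.eq.symm, mul_assoc a b b, hb, mul_one, ha]
  have hsw : closure ({a * b, a} : Set L) = closure ({a, b} : Set L) := by
    refine le_antisymm ((closure_le _).2 ?_) ((closure_le _).2 ?_)
    · rintro _ (rfl | rfl)
      · exact mul_mem (subset_closure (Or.inl rfl)) (subset_closure (Or.inr rfl))
      · exact subset_closure (Or.inl rfl)
    · intro x hx
      rcases hx with hx | hx <;> rw [hx]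
      · exact subset_closure (Or.inr rfl)
      · have := mul_mem (s := closure ({a * b, a} : Set L)) (subset_closure (Or.inr rfl))
          (subset_closure (Or.inl rfl))
        rwa [← mul_assoc, ha, one_mul] at this
  -- no fixed involution, also for the square
  have hfix : ∀ {n : L}, n ∈ normalizer ((P : Subgroup L) : Set L) → Odd (orderOf n) → n ≠ 1 →
      n * a * n⁻¹ ≠ a ∧ n * b * n⁻¹ ≠ b ∧ n * (a * b) * n⁻¹ ≠ a * b := by
    intro n hn ho h1
    refine ⟨fun h => h1 (eq_one_of_fix hL ha1 ha hb1 hb hab hne ho (mul_inv_eq_iff_eq_mul.1 h)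
        (hmem hn hbP)), fun h => h1 (eq_one_of_fix hL hb1 hb ha1 ha hab.symm hne.symm ho
          (mul_inv_eq_iff_eq_mul.1 h) (Set.pair_comm a b ▸ hmem hn haP)), fun h => h1
      (eq_one_of_fix hL hab' habb ha1 ha ((Commute.refl a).mul_left hab.symm) ?_ ho
        (mul_inv_eq_iff_eq_mul.1 h) (hsw.symm ▸ hmem hn haP))⟩
    intro e
    exact hb1 (mul_left_cancel (e.trans (mul_one a).symm))
  have hsqN : n₀ * n₀ ∈ normalizer ((P : Subgroup L) : Set L) := mul_mem hn₀N hn₀N
  have hsqo : Odd (orderOf (n₀ * n₀)) := by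
    rw [← pow_two, orderOf_pow, Nat.Coprime.gcd_eq_one (Nat.coprime_two_right.2 hn₀o), Nat.div_one]
    exact hn₀o
  have hsq1 : n₀ * n₀ ≠ 1 := fun h => hn₀1 (coprime_two_of_odd hn₀o h)
  obtain ⟨fa, fb, fab⟩ := hfix hn₀N hn₀o hn₀1
  obtain ⟨ga, gb, gab⟩ := hfix hsqN hsqo hsq1
  have hsplit : ∀ z w : L, n₀ * (z * w) * n₀⁻¹ = n₀ * z * n₀⁻¹ * (n₀ * w * n₀⁻¹) := fun z w => by
    group
  have hsq' : ∀ z : L, n₀ * n₀ * z * (n₀ * n₀)⁻¹ = n₀ * (n₀ * z * n₀⁻¹) * n₀⁻¹ := fun z => by group
  rcases mem_closure_pair_cases ha hb hab (hmem hn₀N haP) with h | h | h | h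
  · exact absurd (conj_eq_one_iff.1 h) ha1
  · exact absurd h fa
  · rcases mem_closure_pair_cases ha hb hab (hmem hn₀N hbP) with h' | h' | h' | h'
    · exact absurd (conj_eq_one_iff.1 h') hb1
    · exact absurd (by rw [hsq', h, h']) ga
    · exact absurd h' fb
    · exact ⟨n₀, hn₀o, h, h'⟩
  · rcases mem_closure_pair_cases ha hb hab (hmem hn₀N ((P : Subgroup L).mul_mem haP hbP)) with
      h' | h' | h' | h'
    · exact absurd (conj_eq_one_iff.1 h') hab'
    · exact absurd (by rw [hsq', h, h']) ga
    · refine ⟨n₀ * n₀, hsqo, by rw [hsq', h, h'], ?_⟩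
      have hb' : n₀ * b * n₀⁻¹ = a := by
        have h2 := hsplit a (a * b)
        rw [← mul_assoc a a b, ha, one_mul, h, h', mul_assoc a b b, hb, mul_one] at h2
        exact h2
      rw [hsq', hb', h]
    · exact absurd h' fab

/-- For `q = 5` the centraliser of an involution is the four group. -/
theorem commute_cases_of_five (hL : IsOddPSL L) (h60 : Nat.card L = 60) {a b : L} (ha1 : a ≠ 1)
    (ha : a * a = 1) (hb1 : b ≠ 1) (hb : b * b = 1) (hab : Commute a b) (hne : a ≠ b) {g : L}
    (hg : Commute g a) : g ∈ closure ({a, b} : Set L) := by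
  haveI : Fact (Nat.Prime 2) := ⟨Nat.prime_two⟩
  have hodd1 : ∀ z : L, Odd (orderOf z) → Commute z a → z = 1 := by
    obtain ⟨F, _, _, h5, h8, ⟨e⟩⟩ := id hL
    have hodd : Odd (Fintype.card F) := Nat.odd_iff.2 (by omega)
    have hv1 : e a ≠ 1 := by simpa using ha1
    have hv : e a * e a = 1 := by rw [← map_mul, ha, map_one]
    have hq : Fintype.card F = 5 := by
      rw [Nat.card_congr e.toEquiv] at h60
      have h := H56.CTwoAb.card_psl_two_odd (F := F) (by omega)
      rw [h60] at h
      by_contra hne'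
      have h11 : 11 ≤ Fintype.card F := by omega
      have hsq : 120 ≤ Fintype.card F ^ 2 - 1 := by
        have := Nat.pow_le_pow_left h11 2
        omega
      nlinarith
    intro z hzo hz
    by_contra hz1
    obtain ⟨hm, hc⟩ := H88.Walter.PSL.card_cen_mod h8 hv1 hv
    have hcard : Nat.card (Linear.Dickson.cen (e a)) = 2 := by omega
    have hN : e z ∈ normalizer ((Linear.Dickson.cen (e a) : Subgroup _) : Set _) := by
      rw [← H88.Walter.PSL.centralizer_eq hodd hv1 hv, mem_centralizer_singleton_iff]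
      exact (hz.map e).eq
    have hsq : e z * e z ∈ Linear.Dickson.cen (e a) := by
      by_cases hc' : e z ∈ Linear.Dickson.cen (e a)
      · exact mul_mem hc' hc'
      · exact Linear.Dickson.inverter_mul_mem (H88.Walter.PSL.not_isUni hodd hv1 hv)
          (mem_normalizer_iff.1 hN) (mem_normalizer_iff.1 hN) hc' hc'
    have h4 : (e z * e z) ^ 2 = 1 := by
      have := pow_card_eq_one' (G := Linear.Dickson.cen (e a)) (x := ⟨_, hsq⟩)
      rw [hcard] at this
      exact congrArg Subtype.val this
    rw [← map_mul, ← map_pow, ← pow_two, ← pow_mul] at h4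
    exact hz1 (orderOf_eq_one_iff.1 (Nat.eq_one_of_dvd_coprimes
      (Nat.Coprime.pow_right 2 (Nat.coprime_two_right.2 hzo))
      dvd_rfl (orderOf_dvd_of_pow_eq_one (show z ^ 2 ^ 2 = 1 from e.injective (by
        rw [show (2 : ℕ) ^ 2 = 2 * 2 by norm_num, h4, map_one])))))
  obtain ⟨P, hP, -⟩ := exists_sylow_pair hL ha1 ha hb1 hb hab hne
  have hC : IsPGroup 2 (centralizer ({a} : Set L)) := by
    intro x
    obtain ⟨k, m, hm2, hkm⟩ :=
      Nat.exists_eq_pow_mul_and_not_dvd (orderOf_pos (x : L)).ne' 2 (by norm_num)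
    refine ⟨k, Subtype.ext (hodd1 _ ?_ ?_)⟩
    · rw [Subgroup.coe_pow, orderOf_pow_of_dvd (by positivity) (hkm ▸ dvd_mul_right _ _), hkm,
        Nat.mul_div_cancel_left _ (by positivity)]
      exact Nat.odd_iff.2 (by omega)
    · exact (show Commute (x : L) a from mem_centralizer_singleton_iff.1 x.2).pow_left _
  have hPC : (P : Subgroup L) ≤ centralizer ({a} : Set L) := by
    rw [hP, closure_le]
    rintro _ (rfl | rfl)
    · exact mem_centralizer_singleton_iff.2 rfl
    · exact mem_centralizer_singleton_iff.2 hab.symm.eq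
  rw [← hP, ← P.3 hC hPC]
  exact mem_centralizer_singleton_iff.2 hg.eq

/-- An automorphism of odd order fixing the centraliser of an involution is trivial. -/
theorem eq_one_of_fixes_centralizer (hL : IsOddPSL L) {a b : L} (ha1 : a ≠ 1) (ha : a * a = 1)
    (hb1 : b ≠ 1) (hb : b * b = 1) (hab : Commute a b) (hne : a ≠ b) {φ : MulAut L}
    (hφ : Odd (orderOf φ)) (hfix : ∀ c : L, Commute c a → φ c = c) : φ = 1 := by
  haveI : Fact (Nat.Prime 2) := ⟨Nat.prime_two⟩
  set V := closure ({a, b} : Set L) with hV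
  have hVsq : ∀ g ∈ V, g * g = 1 := by
    intro g hg
    rcases mem_closure_pair_cases ha hb hab hg with rfl | rfl | rfl | rfl
    · exact one_mul 1
    · exact ha
    · exact hb
    · rw [mul_assoc, ← mul_assoc b a b, hab.eq.symm, mul_assoc a b b, hb, mul_one, ha]
  have hVC : centralizer (V : Set L) ≤ V := fun g hg => by
    have hga : Commute g a := (mem_centralizer_iff.1 hg a (subset_closure (Or.inl rfl))).symm
    have hgb : Commute g b := (mem_centralizer_iff.1 hg b (subset_closure (Or.inr rfl))).symm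
    rcases centralizer_pair_le hL ha1 ha hb1 hb hab hne hga hgb with rfl | rfl | rfl | rfl
    · exact one_mem _
    · exact subset_closure (Or.inl rfl)
    · exact subset_closure (Or.inr rfl)
    · exact mul_mem (subset_closure (Or.inl rfl)) (subset_closure (Or.inr rfl))
  have hVle : ∀ g ∈ V, Commute g a := fun g hg => by
    rcases mem_closure_pair_cases ha hb hab hg with rfl | rfl | rfl | rfl
    · exact Commute.one_left _
    · exact Commute.refl _
    · exact hab.symm
    · exact (Commute.refl a).mul_left hab.symm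
  have hφV : H88.Walter.Fixes φ V := fun g hg => hfix g (hVle g hg)
  have hφN := H88.Walter.fixes_normalizer hVsq hVC hφ hφV
  obtain ⟨n, hno, hna, hnb⟩ := exists_fuse hL ha1 ha hb1 hb hab hne
  have hnN : n ∈ normalizer (V : Set L) := by
    refine Components.mem_normalizer_of_map_conj_eq ?_
    rw [hV, MonoidHom.map_closure]
    refine le_antisymm ((closure_le _).2 ?_) ((closure_le _).2 ?_)
    · rintro _ ⟨z, rfl | rfl, rfl⟩
      · exact hna ▸ subset_closure (Or.inr rfl)
      · show n * z * n⁻¹ ∈ _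
        rw [hnb]
        exact mul_mem (subset_closure (Or.inl rfl)) (subset_closure (Or.inr rfl))
    · intro x hx
      rcases hx with hx | hx <;> rw [hx]
      · have := mul_mem (s := closure ((MulAut.conj n).toMonoidHom '' ({a, b} : Set L)))
          (subset_closure ⟨b, Or.inr rfl, hnb⟩) (subset_closure ⟨a, Or.inl rfl, hna⟩)
        rwa [mul_assoc, hb, mul_one] at this
      · exact subset_closure ⟨a, Or.inl rfl, hna⟩
  by_cases h60 : Nat.card L = 60
  · -- the Borel criterion
    haveI := isSimpleGroup hL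
    set B := normalizer (V : Set L) with hB
    have hcases := fun {g : L} (hg : Commute g a) =>
      commute_cases_of_five hL h60 ha1 ha hb1 hb hab hne hg
    have haV : a ∈ V := subset_closure (Or.inl rfl)
    have hrep : ∀ g ∈ B, ∃ i : Fin 3, ((n ^ (i : ℕ))⁻¹ * g) ∈ V := by
      intro g hg
      have hc : ∀ i : ℕ, n ^ i * a * (n ^ i)⁻¹ = g * a * g⁻¹ → (n ^ i)⁻¹ * g ∈ V := fun i h => by
        refine hcases (mul_inv_eq_iff_eq_mul.1 ?_)
        calc (n ^ i)⁻¹ * g * a * ((n ^ i)⁻¹ * g)⁻¹ = (n ^ i)⁻¹ * (g * a * g⁻¹) * n ^ i := by group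
          _ = (n ^ i)⁻¹ * (n ^ i * a * (n ^ i)⁻¹) * n ^ i := by rw [h]
          _ = a := by group
      rcases mem_closure_pair_cases ha hb hab ((mem_normalizer_iff.1 hg a).1 haV) with h | h | h | h
      · exact absurd (conj_eq_one_iff.1 h) ha1
      · exact ⟨0, hc 0 (by rw [h]; group)⟩
      · exact ⟨1, hc 1 (by rw [h, pow_one, hna])⟩
      · exact ⟨2, hc 2 (by
          rw [h, pow_two, show n * n * a * (n * n)⁻¹ = n * (n * a * n⁻¹) * n⁻¹ by group, hna, hnb])⟩
    obtain ⟨P, hP, hP4⟩ := exists_sylow_pair hL ha1 ha hb1 hb hab hne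
    have hV4 : Nat.card V = 4 := by rw [hV, ← hP, hP4]
    have hB12 : Nat.card B ≤ 12 := by
      choose i hi using fun g : B => hrep g g.2
      have hinj : Function.Injective fun g : B => (i g, (⟨_, hi g⟩ : V)) := by
        intro g g' e
        simp only [Prod.mk.injEq, Subtype.mk.injEq] at e
        obtain ⟨e1, e2⟩ := e
        rw [e1] at e2
        exact Subtype.ext (mul_left_cancel e2)
      have := Nat.card_le_card_of_injective _ hinj
      rwa [Nat.card_prod, hV4, Nat.card_fin] at this
    have hBtop : B ≠ ⊤ := fun h => by rw [h, Subgroup.card_top, h60] at hB12; omega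
    have hcore : B.normalCore = ⊥ := (B.normalCore_normal.eq_bot_or_eq_top).resolve_right fun h =>
      hBtop (top_le_iff.1 (h ▸ B.normalCore_le))
    have hBV : ∀ z ∈ B, z * z = 1 → z ∈ V := by
      intro z hz hz2
      have hzp : IsPGroup 2 (zpowers z) := fun w => ⟨1, Subtype.ext (by
        obtain ⟨w, k, rfl⟩ := w
        show (z ^ k) ^ 2 ^ 1 = 1
        rw [pow_one, ← zpow_natCast, ← zpow_mul, mul_comm, zpow_mul, zpow_natCast, pow_two, hz2,
          one_zpow])⟩
      have hsup := IsPGroup.to_sup_of_normal_left' (H := V) ((hP.trans hV.symm) ▸ P.isPGroup') hzp (zpowers_le.2 hz)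
      have := P.3 hsup ((hP.trans hV.symm).le.trans le_sup_left)
      rw [← hP.trans hV.symm, ← this]
      exact mem_sup_right (mem_zpowers z)
    have hindex : B.index = 5 := by
      have h1 := B.card_mul_index
      rw [h60] at h1
      have h4 : 4 < Nat.card B := by
        refine lt_of_le_of_ne (hV4 ▸ Nat.card_le_card_of_injective _
          (Subgroup.inclusion_injective (le_normalizer : V ≤ B))) fun h => ?_
        have hVB : V = B := Subgroup.eq_of_le_of_card_ge le_normalizer (by rw [← h, hV4])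
        have hn' : n ∈ V := hVB ▸ hnN
        have := hVle n hn'
        rw [this.eq, mul_inv_cancel_right] at hna
        exact hne hna
      have h4d : 4 ∣ Nat.card B := hV4 ▸ Subgroup.card_dvd_of_le le_normalizer
      have : Nat.card B = 8 ∨ Nat.card B = 12 := by omega
      rcases this with h | h <;> rw [h] at h1 <;> omega
    have htrans : ∀ g h : L, g ∉ B → h ∉ B → ∃ v ∈ V, (v * g)⁻¹ * h ∈ B := by
      intro g h hg hh
      by_contra hcon
      push Not at hcon
      haveI := Fintype.ofFinite (L ⧸ B)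
      haveI := Fintype.ofFinite V
      let f : Option (Option V) → L ⧸ B := fun o =>
        o.elim ((1 : L) : L ⧸ B) fun o' => o'.elim (h : L ⧸ B) fun v => (((v : L) * g : L) : L ⧸ B)
      have hinjV : ∀ v w : V, (((v : L) * g : L) : L ⧸ B) = (((w : L) * g : L) : L ⧸ B) →
          v = w := by
        intro v w e
        rw [QuotientGroup.eq] at e
        by_contra hvw
        set z := (v : L)⁻¹ * w with hz
        have hz1 : z ≠ 1 := fun h1 => hvw (Subtype.ext (inv_mul_eq_one.1 h1))
        have hzV : z ∈ V := mul_mem (inv_mem v.2) w.2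
        have hconjB : g⁻¹ * z * g ∈ B := by
          rw [hz]
          simpa [mul_assoc] using e
        have hz'V : g⁻¹ * z * g ∈ V := hBV _ hconjB (by
          rw [show g⁻¹ * z * g * (g⁻¹ * z * g) = g⁻¹ * (z * z) * g by group, hVsq z hzV]; group)
        -- both are involutions of `V`, conjugate under `B`
        have hconjV : ∀ z ∈ V, z ≠ 1 → ∃ m ∈ B, m * a * m⁻¹ = z := by
          intro z hz hz1
          rcases mem_closure_pair_cases ha hb hab hz with rfl | rfl | rfl | rfl
          · exact absurd rfl hz1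
          · exact ⟨1, one_mem _, by group⟩
          · exact ⟨n, hnN, hna⟩
          · exact ⟨n * n, mul_mem hnN hnN, by
              rw [show n * n * a * (n * n)⁻¹ = n * (n * a * n⁻¹) * n⁻¹ by group, hna, hnb]⟩
        obtain ⟨m, hm, hmz⟩ := hconjV z hzV hz1
        obtain ⟨m', hm', hmz'⟩ := hconjV _ hz'V (fun h1 => hz1 (by
          calc z = g * (g⁻¹ * z * g) * g⁻¹ := by group
            _ = 1 := by rw [h1]; group))
        have hcomm : Commute (m⁻¹ * g * m') a := mul_inv_eq_iff_eq_mul.1 (by
          calc m⁻¹ * g * m' * a * (m⁻¹ * g * m')⁻¹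
              = m⁻¹ * (g * (m' * a * m'⁻¹) * g⁻¹) * m := by group
            _ = m⁻¹ * z * m := by rw [hmz']; group
            _ = a := by rw [← hmz]; group)
        have := mul_mem (mul_mem hm (le_normalizer (hcases hcomm) : m⁻¹ * g * m' ∈ B)) (inv_mem hm')
        apply hg
        rwa [show m * (m⁻¹ * g * m') * m'⁻¹ = g by group] at this
      have hone : ∀ v : V, ((1 : L) : L ⧸ B) ≠ (((v : L) * g : L) : L ⧸ B) := by
        intro v e
        rw [QuotientGroup.eq, inv_one, one_mul] at e
        apply hg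
        have := mul_mem (inv_mem (le_normalizer v.2 : (v : L) ∈ B)) e
        rwa [inv_mul_cancel_left] at this
      have hf : Function.Injective f := by
        rintro (_ | _ | v) (_ | _ | w) e <;> simp only [f, Option.elim] at e
        · rfl
        · rw [QuotientGroup.eq, inv_one, one_mul] at e; exact absurd e hh
        · exact absurd e (hone w)
        · rw [eq_comm, QuotientGroup.eq, inv_one, one_mul] at e; exact absurd e hh
        · rfl
        · rw [eq_comm, QuotientGroup.eq] at e
          exact absurd e (hcon w w.2)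
        · exact absurd e.symm (hone v)
        · rw [QuotientGroup.eq] at e
          exact absurd e (hcon v v.2)
        · rw [hinjV v w e]
      have h1 := Nat.card_le_card_of_injective f hf
      rw [← Subgroup.index_eq_card, hindex, Finite.card_option, Finite.card_option, hV4] at h1
      omega
    exact H88.Walter.eq_one_of_borel hVsq le_normalizer hcore htrans hφ hφN
  · -- `q ≥ 11`
    have hR : H88.Walter.RigidAt V a := by
      obtain ⟨F, _, _, h5, h8, ⟨e⟩⟩ := id hL
      have h11 : 11 ≤ Fintype.card F := by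
        by_contra hcon
        have hq : Fintype.card F = 5 := by omega
        have h := H56.CTwoAb.card_psl_two_odd (F := F) (by omega)
        rw [hq] at h
        rw [Nat.card_congr e.toEquiv] at h60
        norm_num at h
        omega
      have hmapV : ∀ z, e z ∈ V.map e.toMonoidHom ↔ z ∈ V := fun z =>
        Subgroup.mem_map_iff_mem e.injective
      have hP := H88.Walter.PSL.rigidAt (V := V.map e.toMonoidHom) h8 h11
        (by simpa using ha1) (show e a * e a = 1 by rw [← map_mul, ha, map_one]) (g := e n)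
        (Subgroup.le_normalizer_map _ ⟨n, hnN, rfl⟩) (by
          rw [← map_inv, ← map_mul, ← map_mul, hna]
          exact fun h => hne (e.injective h).symm)
      intro ψ hψ hψV hψN hψC
      have hconj : (e.symm.trans (ψ.trans e) : MulAut _) = 1 := by
        refine hP _ ?_ ?_ ?_ ?_
        · have : orderOf (e.symm.trans (ψ.trans e) : MulAut _) = orderOf ψ :=
            orderOf_injective (MulAut.congr e).toMonoidHom (MulAut.congr e).injective ψ
          rwa [this]
        · rintro _ ⟨z, hz, rfl⟩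
          simp [hψV z hz]
        · intro z hz
          have hz' : e.symm z ∈ normalizer (V : Set L) := by
            rw [mem_normalizer_iff] at hz ⊢
            intro w
            rw [← hmapV w, hz (e w), ← hmapV (e.symm z * w * (e.symm z)⁻¹), map_mul, map_mul,
              map_inv, e.apply_symm_apply]
          simp [hψN _ hz']
        · intro z hz
          have hz' : e.symm z ∈ centralizer ({a} : Set L) := by
            rw [mem_centralizer_singleton_iff] at hz ⊢
            apply e.injective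
            simpa using hz
          simp [hψC _ hz']
      refine MulEquiv.ext fun z => e.injective ?_
      simpa using DFunLike.congr_fun hconj (e z)
    exact hR φ hφ hφV hφN fun c hc => hfix c (mem_centralizer_singleton_iff.1 hc)

/-- An odd subgroup normalised by the centraliser of an involution `a` and by a four group
through `a` centralises `a`. -/
theorem le_centralizer_of_normalized (hL : IsOddPSL L) {a b : L} (ha1 : a ≠ 1) (ha : a * a = 1)
    (hb1 : b ≠ 1) (hb : b * b = 1) (hab : Commute a b) (hne : a ≠ b) {Z : Subgroup L}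
    (hodd : Odd (Nat.card Z)) (hn : ∀ c : L, Commute c a → c ∈ normalizer (Z : Set L)) :
    ∀ z ∈ Z, Commute z a := by
  by_cases hZ : Z = ⊥
  · intro z hz
    rw [hZ, mem_bot] at hz
    rw [hz]
    exact Commute.one_left a
  haveI : Group.IsSolvable Z := S0205.result hodd
  haveI : Nontrivial Z := (Subgroup.nontrivial_iff_ne_bot Z).2 hZ
  classical
  obtain ⟨m, hm⟩ := (isSolvable_def Z).1 inferInstance
  have hex : ∃ m, derivedSeries Z m = ⊥ := ⟨m, hm⟩
  obtain ⟨j, hj⟩ : ∃ j, Nat.find hex = j + 1 := by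
    refine Nat.exists_eq_succ_of_ne_zero fun h0 => ?_
    have := Nat.find_spec hex
    rw [h0, derivedSeries_zero] at this
    exact top_ne_bot this
  have hjne : derivedSeries Z j ≠ ⊥ := Nat.find_min hex (by omega)
  have hjc : derivedSeries Z (j + 1) = ⊥ := hj ▸ Nat.find_spec hex
  set A := (derivedSeries Z j).map Z.subtype with hA
  have hAZ : A ≤ Z := map_subtype_le _
  have hAn : normalizer (Z : Set L) ≤ normalizer (A : Set L) :=
    Components.le_normalizer_map_characteristic _ le_rfl
  have hAcomm : ∀ y ∈ A, ∀ z ∈ A, Commute y z := by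
    rintro _ ⟨y, hy, rfl⟩ _ ⟨z, hz, rfl⟩
    have h := commutator_mem_commutator (H₁ := derivedSeries Z j) (H₂ := derivedSeries Z j) hy hz
    rw [← derivedSeries_succ, hjc, mem_bot, commutatorElement_eq_one_iff_mul_comm] at h
    exact congrArg Z.subtype h
  have hAodd : ∀ {y : L}, y ∈ A → Odd (orderOf y) := fun {y} hy =>
    hodd.of_dvd_nat ((Subgroup.orderOf_dvd_natCard Z (hAZ hy)))
  have han : a ∈ normalizer (A : Set L) := hAn (hn a (Commute.refl a))
  have hbn : b ∈ normalizer (A : Set L) := hAn (hn b hab.symm)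
  have hab' : a * b ≠ 1 := fun h => hne (by
    calc a = a * (b * b) := by rw [hb, mul_one]
      _ = b := by rw [← mul_assoc, h, one_mul])
  have habb : a * b * (a * b) = 1 := by
    rw [mul_assoc, ← mul_assoc b a b, hab.eq.symm, mul_assoc a b b, hb, mul_one, ha]
  -- an element of `A` centralised by an involution of the four group
  obtain ⟨x, z₀, hx, hz₀, hz₀1, hxz⟩ : ∃ x z₀, (x = a ∨ x = b ∨ x = a * b) ∧ z₀ ∈ A ∧ z₀ ≠ 1 ∧
      Commute x z₀ := by
    obtain ⟨z', hz', hz'1⟩ : ∃ z ∈ A, z ≠ 1 := A.bot_or_exists_ne_one.resolve_left fun h =>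
      hjne ((Subgroup.map_eq_bot_iff_of_injective _ Z.subtype_injective).1 h)
    have step : ∀ {w : L}, w * w = 1 → w ∈ normalizer (A : Set L) → w * z' * w⁻¹ ≠ z'⁻¹ →
        z' * (w * z' * w⁻¹) ∈ A ∧ z' * (w * z' * w⁻¹) ≠ 1 ∧ Commute w (z' * (w * z' * w⁻¹)) := by
      intro w hw hwn hni
      have hmem : w * z' * w⁻¹ ∈ A := (mem_normalizer_iff.1 hwn z').1 hz'
      refine ⟨mul_mem hz' hmem, fun h => hni (eq_inv_of_mul_eq_one_right h), ?_⟩
      have h2 : w * (z' * (w * z' * w⁻¹)) * w⁻¹ = z' * (w * z' * w⁻¹) := by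
        rw [show w * (z' * (w * z' * w⁻¹)) * w⁻¹ = w * z' * w⁻¹ * ((w * w) * z' * (w * w)⁻¹) by group,
          hw, inv_one, mul_one, one_mul, (hAcomm _ hmem _ hz').eq]
      exact mul_inv_eq_iff_eq_mul.1 h2
    by_cases h1 : a * z' * a⁻¹ = z'⁻¹
    · by_cases h2 : b * z' * b⁻¹ = z'⁻¹
      · refine ⟨a * b, z', Or.inr (Or.inr rfl), hz', hz'1, mul_inv_eq_iff_eq_mul.1 ?_⟩
        rw [show a * b * z' * (a * b)⁻¹ = a * (b * z' * b⁻¹) * a⁻¹ by group, h2,
          show a * z'⁻¹ * a⁻¹ = (a * z' * a⁻¹)⁻¹ by group, h1, inv_inv]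
      · obtain ⟨h3, h4, h5⟩ := step hb hbn h2
        exact ⟨b, _, Or.inr (Or.inl rfl), h3, h4, h5⟩
    · obtain ⟨h3, h4, h5⟩ := step ha han h1
      exact ⟨a, _, Or.inl rfl, h3, h4, h5⟩
  have hx1 : x ≠ 1 := by rcases hx with h | h | h <;> rw [h] <;> assumption
  have hxx : x * x = 1 := by rcases hx with h | h | h <;> rw [h] <;> assumption
  have hxA : ∀ y ∈ A, Commute x y := fun y hy => by
    refine (mul_inv_eq_iff_eq_mul.1 (eq_of_commute_odd hL (hAodd hz₀) hz₀1 ?_ ?_ ?_ hx1 hxx
      hxz : y * x * y⁻¹ = x) : Commute y x).symm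
    · exact fun h => hx1 (conj_eq_one_iff.1 h)
    · rw [show y * x * y⁻¹ * (y * x * y⁻¹) = y * (x * x) * y⁻¹ by group, hxx]; group
    · have h := (hAcomm _ hy _ hz₀)
      exact (h.mul_left hxz).mul_left h.inv_left
  have hxN : ∀ g ∈ normalizer (A : Set L), Commute g x := fun g hg => by
    have hz₁ : g * z₀ * g⁻¹ ∈ A := (mem_normalizer_iff.1 hg z₀).1 hz₀
    refine mul_inv_eq_iff_eq_mul.1 (eq_of_commute_odd hL (hAodd hz₁)
      (fun h => hz₀1 (conj_eq_one_iff.1 h)) ?_ ?_ ?_ hx1 hxx (hxA _ hz₁))
    · exact fun h => hx1 (conj_eq_one_iff.1 h)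
    · rw [show g * x * g⁻¹ * (g * x * g⁻¹) = g * (x * x) * g⁻¹ by group, hxx]; group
    · show g * x * g⁻¹ * (g * z₀ * g⁻¹) = g * z₀ * g⁻¹ * (g * x * g⁻¹)
      rw [show g * x * g⁻¹ * (g * z₀ * g⁻¹) = g * (x * z₀) * g⁻¹ by group, hxz.eq]
      group
  have hle : centralizer ({a} : Set L) ≤ centralizer ({x} : Set L) := fun c hc =>
    mem_centralizer_singleton_iff.2
      (hxN c (hAn (hn c (mem_centralizer_singleton_iff.1 hc)))).eq
  obtain ⟨g, hg⟩ : ∃ g, g * a * g⁻¹ = x := by
    obtain ⟨n, -, hna, hnb⟩ := exists_fuse hL ha1 ha hb1 hb hab hne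
    rcases hx with h | h | h <;> rw [h]
    · exact ⟨1, by group⟩
    · exact ⟨n, hna⟩
    · refine ⟨n * n, ?_⟩
      rw [show n * n * a * (n * n)⁻¹ = n * (n * a * n⁻¹) * n⁻¹ by group, hna, hnb]
  have heq : centralizer ({a} : Set L) = centralizer ({x} : Set L) := by
    refine Subgroup.eq_of_le_of_card_ge hle ?_
    refine Nat.card_le_card_of_injective (fun c => (⟨g⁻¹ * c * g, ?_⟩ : centralizer ({a} : Set L)))
      fun c c' e => Subtype.ext (mul_left_cancel (mul_right_cancel (congrArg Subtype.val e)))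
    obtain ⟨c, hc⟩ := c
    show g⁻¹ * c * g ∈ centralizer ({a} : Set L)
    rw [mem_centralizer_singleton_iff] at hc ⊢
    rw [← hg] at hc
    calc g⁻¹ * c * g * a = g⁻¹ * (c * (g * a * g⁻¹)) * g := by group
      _ = g⁻¹ * (g * a * g⁻¹ * c) * g := by rw [hc]
      _ = a * (g⁻¹ * c * g) := by group
  intro z hz
  refine mem_centralizer_singleton_iff.1 (heq ▸ mem_centralizer_singleton_iff.2 ?_)
  exact (hxN z (hAn (le_normalizer hz))).eq

end Cfsg.Agent.H29.Walter
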